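import Cfsg.Agent.Lib.G2Oct.Spectrum
import Cfsg.Agent.EqLemmas

/-!
# Automorphisms of Zorn's algebra of odd order prime to the characteristic

* `exists_fixed_split` : such an automorphism fixes a quadratic subalgebra that splits.
* `exists_conj_stab`   : so over an algebraically closed field it is conjugate into the stabiliser of `e₀`.
-/

set_option autoImplicit false
set_option linter.unusedSimpArgs false

namespace Cfsg.Agent.G2Sections

open Cfsg.Lie Cfsg.Agent.G2Zorn Cfsg.Agent.G2Oct TwoCover Polynomial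
open scoped Matrix

variable {K : Type*} [Field K]

/-- The matrix of the polar form of the norm. -/
def jMat : M8 K := Matrix.of fun i j =>
  ![![0, 0, 0, 0, 0, 0, 0, 1], ![0, 0, 0, 0, -1, 0, 0, 0], ![0, 0, 0, 0, 0, -1, 0, 0], ![0, 0, 0, 0, 0, 0, -1, 0],
    ![0, -1, 0, 0, 0, 0, 0, 0], ![0, 0, -1, 0, 0, 0, 0, 0], ![0, 0, 0, -1, 0, 0, 0, 0], ![1, 0, 0, 0, 0, 0, 0, 0]] i j

/-- The polar form. -/
def pB (x y : Fin 8 → K) : K := x ⬝ᵥ (jMat *ᵥ y)

theorem pB_eq (x y : Fin 8 → K) : pB x y = zN (x + y) - zN x - zN y := by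
  simp [pB, jMat, zN, dot3, zA, zB, dotProduct, Matrix.mulVec, Fin.sum_univ_eight]
  ring

theorem pB_oneZ (x : Fin 8 → K) : pB x oneZ = x 0 + x 7 := by
  simp [pB, jMat, oneZ, Zv, dotProduct, Matrix.mulVec, Fin.sum_univ_eight]

theorem jMat_mul_self : (jMat : M8 K) * jMat = 1 := by
  ext i j
  fin_cases i <;> fin_cases j <;> simp [jMat, Matrix.mul_apply, Fin.sum_univ_eight]

/-- The reflection in the unit. -/
def rMat : M8 K := 1 - Matrix.vecMulVec oneZ (Pi.single 0 1 + Pi.single 7 1)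

theorem rMat_mulVec (x : Fin 8 → K) : rMat *ᵥ x = x - (x 0 + x 7) • (oneZ : Fin 8 → K) := by
  rw [rMat, Matrix.sub_mulVec, Matrix.one_mulVec, Matrix.vecMulVec_mulVec]
  congr 1
  funext i
  simp [add_dotProduct, mul_comm]

theorem rMat_det : (rMat : M8 K).det = -1 := by
  rw [rMat, sub_eq_add_neg, ← Matrix.neg_vecMulVec,
    Matrix.vecMulVec_eq Unit, Matrix.det_one_add_replicateCol_mul_replicateRow]
  simp [oneZ, Zv, add_dotProduct, dotProduct_neg]

theorem eq_of_forall_pB {A : M8 K} (h : ∀ x y, pB (A *ᵥ x) (A *ᵥ y) = pB x y) : Aᵀ * jMat * A = jMat := by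
  ext i j
  have e := h (Pi.single i 1) (Pi.single j 1)
  simp only [pB] at e
  rw [← Matrix.vecMul_transpose, ← Matrix.dotProduct_mulVec, Matrix.mulVec_mulVec, Matrix.mulVec_mulVec,
    single_dotProduct, single_dotProduct, one_mul, one_mul, Matrix.mulVec_single_one,
    Matrix.mulVec_single_one] at e
  exact e

theorem pB_act (g : G2 K) (x y : Fin 8 → K) :
    pB (act (g : GL (Fin 8) K) x) (act (g : GL (Fin 8) K) y) = pB x y := by
  have e : act (g : GL (Fin 8) K) x + act (g : GL (Fin 8) K) y = act (g : GL (Fin 8) K) (x + y) := by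
    simp [act, Matrix.mulVec_add]
  rw [pB_eq, pB_eq, e, (trace_norm_act g (x + y)).2, (trace_norm_act g x).2, (trace_norm_act g y).2]

theorem pB_rMat (x y : Fin 8 → K) : pB (rMat *ᵥ x) (rMat *ᵥ y) = pB x y := by
  rw [rMat_mulVec, rMat_mulVec]
  simp [pB, jMat, oneZ, Zv, dotProduct, Matrix.mulVec, Fin.sum_univ_eight]
  ring

theorem act_rMat (g : G2 K) (x : Fin 8 → K) :
    act (g : GL (Fin 8) K) (rMat *ᵥ x) = rMat *ᵥ act (g : GL (Fin 8) K) x := by
  rw [rMat_mulVec, rMat_mulVec, (trace_norm_act g x).1]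
  show (g : GL (Fin 8) K).val *ᵥ _ = _
  rw [Matrix.mulVec_sub, Matrix.mulVec_smul, show (g : GL (Fin 8) K).val *ᵥ oneZ = oneZ from act_one g]

theorem zN_smul (c : K) (x : Fin 8 → K) : zN (c • x) = c ^ 2 * zN x := by
  simp [zN, dot3, zA, zB]
  ring

section Average

variable (g : G2 K) {n : ℕ} (hn : g ^ n = 1) (hnK : (n : K) ≠ 0)
include hn hnK

/-- Averaging gives a fixed vector of the same trace and the same pairing with fixed vectors. -/
theorem exists_average (z : Fin 8 → K) :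
    ∃ w, act (g : GL (Fin 8) K) w = w ∧ w 0 + w 7 = z 0 + z 7 ∧
      ∀ x, act (g : GL (Fin 8) K) x = x → pB x w = pB x z := by
  let f : ℕ → Fin 8 → K := fun i => act ((g ^ i : G2 K) : GL (Fin 8) K) z
  refine ⟨(n : K)⁻¹ • ∑ i ∈ Finset.range n, f i, ?_, ?_, fun x hx => ?_⟩
  · have hshift : ∀ i, act (g : GL (Fin 8) K) (f i) = f (i + 1) := fun i => by
      simp only [f]
      rw [← act_mul, ← pow_succ']
    show (g : GL (Fin 8) K).val *ᵥ _ = _
    rw [Matrix.mulVec_smul, Matrix.mulVec_sum]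
    congr 1
    have h1 := Finset.sum_range_succ' f n
    rw [Finset.sum_range_succ, show f n = f 0 by simp only [f]; rw [hn, pow_zero]] at h1
    exact (Finset.sum_congr rfl fun i _ => hshift i).trans (add_right_cancel h1.symm)
  · have h : ∀ i, f i 0 + f i 7 = z 0 + z 7 := fun i => (trace_norm_act (g ^ i) z).1
    simp only [Pi.smul_apply, Finset.sum_apply, smul_eq_mul, ← mul_add, ← Finset.sum_add_distrib, h,
      Finset.sum_const, Finset.card_range, nsmul_eq_mul, inv_mul_cancel_left₀ hnK]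
  · have hfix : ∀ i : ℕ, act ((g ^ i : G2 K) : GL (Fin 8) K) x = x := fun i => by
      induction i with
      | zero => simp [act]
      | succ i ih => rw [pow_succ, act_mul, hx, ih]
    have h : ∀ i, pB x (f i) = pB x z := fun i => by
      conv_lhs => rw [← hfix i]
      exact pB_act _ x z
    simp only [pB, Matrix.mulVec_smul, dotProduct_smul, Matrix.mulVec_sum, dotProduct_sum] at h ⊢
    simp only [h, Finset.sum_const, Finset.card_range, nsmul_eq_mul, smul_eq_mul, inv_mul_cancel_left₀ hnK]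

variable (hodd : Odd n)
include hodd

theorem det_eq_one : (((g : GL (Fin 8) K) : M8 K)).det = 1 := by
  set A : M8 K := ((g : GL (Fin 8) K) : M8 K)
  have h1 : A.det * A.det = 1 := by
    have h := congrArg Matrix.det (eq_of_forall_pB (A := A) (pB_act g))
    rw [Matrix.det_mul, Matrix.det_mul, Matrix.det_transpose] at h
    have hj : (jMat : M8 K).det ≠ 0 := fun h0 => by
      have := congrArg Matrix.det (jMat_mul_self (K := K))
      rw [Matrix.det_mul, h0, mul_zero, Matrix.det_one] at this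
      exact zero_ne_one this
    exact mul_right_cancel₀ hj (by linear_combination h)
  have h2 : A.det ^ n = 1 := by
    rw [← Matrix.det_pow, show A ^ n = 1 from ?_, Matrix.det_one]
    exact congrArg (fun y : G2 K => ((y : GL (Fin 8) K) : M8 K)) hn
  obtain ⟨k, rfl⟩ := hodd
  rwa [pow_succ, pow_mul, pow_two, h1, one_pow, one_mul] at h2

/-- A fixed vector of trace zero. -/
theorem exists_fixed_traceless (h2 : (2 : K) ≠ 0) :
    ∃ x, x ≠ 0 ∧ act (g : GL (Fin 8) K) x = x ∧ x 0 + x 7 = 0 := by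
  set A : M8 K := ((g : GL (Fin 8) K) : M8 K)
  set B := A * rMat with hB
  have horth : Bᵀ * jMat * B = jMat := eq_of_forall_pB fun x y => by
    rw [hB, ← Matrix.mulVec_mulVec, ← Matrix.mulVec_mulVec]
    exact (pB_act g _ _).trans (pB_rMat x y)
  have hdet : B.det = -1 := by rw [hB, Matrix.det_mul, det_eq_one g hn hnK hodd, rMat_det, one_mul]
  have h0 : (1 - B).det = 0 := by
    have e : jMat * (1 - B) = (Bᵀ - 1) * (jMat * B) := by
      rw [sub_mul, ← mul_assoc, horth, mul_sub, mul_one, one_mul]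
    have h := congrArg Matrix.det e
    rw [Matrix.det_mul, Matrix.det_mul, Matrix.det_mul, hdet,
      show Bᵀ - 1 = (-(1 - B))ᵀ by rw [neg_sub, Matrix.transpose_sub, Matrix.transpose_one],
      Matrix.det_transpose, Matrix.det_neg, Fintype.card_fin] at h
    have hj : (jMat : M8 K).det ≠ 0 := fun h0 => by
      have := congrArg Matrix.det (jMat_mul_self (K := K))
      rw [Matrix.det_mul, h0, mul_zero, Matrix.det_one] at this
      exact zero_ne_one this
    have : 2 * ((jMat : M8 K).det * (1 - B).det) = 0 := by linear_combination h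
    exact (mul_eq_zero.1 ((mul_eq_zero.1 this).resolve_left h2)).resolve_left hj
  obtain ⟨x, hx0, hx⟩ := Matrix.exists_mulVec_eq_zero_iff.2 h0
  rw [Matrix.sub_mulVec, Matrix.one_mulVec, sub_eq_zero, hB, ← Matrix.mulVec_mulVec] at hx
  have hxy : act (g : GL (Fin 8) K) (rMat *ᵥ x) = x := hx.symm
  have hr2 : rMat *ᵥ (rMat *ᵥ x) = x := by
    have ht : (x - (x 0 + x 7) • (oneZ : Fin 8 → K)) 0 + (x - (x 0 + x 7) • (oneZ : Fin 8 → K)) 7 =
        -(x 0 + x 7) := by
      simp [oneZ, Zv_zero, Zv_seven]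
    rw [rMat_mulVec, rMat_mulVec, ht, neg_smul, sub_neg_eq_add, sub_add_cancel]
  have hyx : act (g : GL (Fin 8) K) x = rMat *ᵥ x := by
    conv_lhs => rw [← hr2]
    rw [act_rMat, hxy]
  have hsq : ∀ k : ℕ, act ((g ^ (2 * k) : G2 K) : GL (Fin 8) K) x = x := fun k => by
    induction k with
    | zero => simp [act]
    | succ k ih => rw [show 2 * (k + 1) = 2 * k + 1 + 1 by ring, pow_succ, pow_succ, act_mul, act_mul, hyx, hxy, ih]
  obtain ⟨k, rfl⟩ := hodd
  have hfix : act (g : GL (Fin 8) K) x = x := by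
    conv_rhs => rw [show x = act ((1 : G2 K) : GL (Fin 8) K) x by simp [act], ← hn, pow_succ', act_mul, hsq]
  refine ⟨x, hx0, hfix, ?_⟩
  have e : rMat *ᵥ x = x := by rw [← hyx, hfix]
  rw [rMat_mulVec, sub_eq_self, smul_eq_zero] at e
  exact e.resolve_right fun h => by simpa [oneZ, Zv] using congrFun h 0

/-- A fixed vector generating a split quadratic algebra. -/
theorem exists_fixed_split :
    ∃ x, act (g : GL (Fin 8) K) x = x ∧ (x 0 + x 7) ^ 2 - 4 * zN x ≠ 0 := by
  by_cases h2 : (2 : K) = 0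
  · obtain ⟨w, hw, ht, -⟩ := exists_average g hn hnK (Pi.single 0 1)
    refine ⟨w, hw, ?_⟩
    rw [ht, show (4 : K) = 2 * 2 by norm_num, h2]
    simp
  obtain ⟨x, hx0, hx, htx⟩ := exists_fixed_traceless g hn hnK hodd h2
  have h4 : (4 : K) ≠ 0 := by rw [show (4 : K) = 2 * 2 by norm_num]; exact mul_ne_zero h2 h2
  by_cases hN : zN x = 0
  swap
  · exact ⟨x, hx, by rw [htx]; simp [h4, hN]⟩
  obtain ⟨z, hz⟩ : ∃ z, pB x z = 1 := by
    obtain ⟨i, hi⟩ := Function.ne_iff.1 hx0
    refine ⟨(x i)⁻¹ • (jMat *ᵥ Pi.single i 1), ?_⟩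
    rw [pB, Matrix.mulVec_smul, Matrix.mulVec_mulVec, jMat_mul_self, Matrix.one_mulVec, dotProduct_smul,
      dotProduct_single, mul_one, smul_eq_mul, inv_mul_cancel₀ hi]
  obtain ⟨w, hw, -, hxw⟩ := exists_average g hn hnK z
  set w₀ := w - ((w 0 + w 7) / 2) • (oneZ : Fin 8 → K) with hw₀
  have htw : w₀ 0 + w₀ 7 = 0 := by
    simp [hw₀, oneZ, Zv_zero, Zv_seven]
    field_simp
    ring
  have hfw : act (g : GL (Fin 8) K) w₀ = w₀ := by
    show (g : GL (Fin 8) K).val *ᵥ _ = _
    rw [hw₀, Matrix.mulVec_sub, Matrix.mulVec_smul, show (g : GL (Fin 8) K).val *ᵥ oneZ = oneZ from act_one g,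
      show (g : GL (Fin 8) K).val *ᵥ w = w from hw]
  have hB : pB x w₀ = 1 := by
    rw [show pB x w₀ = pB x w - (w 0 + w 7) / 2 * pB x oneZ by
      simp only [pB, hw₀, Matrix.mulVec_sub, Matrix.mulVec_smul, dotProduct_sub, dotProduct_smul, smul_eq_mul],
      pB_oneZ, htx, mul_zero, sub_zero, hxw x hx, hz]
  by_cases hNw : zN w₀ = 0
  swap
  · exact ⟨w₀, hfw, by rw [htw]; simp [h4, hNw]⟩
  refine ⟨x + w₀, ?_, ?_⟩
  · show (g : GL (Fin 8) K).val *ᵥ _ = _
    rw [Matrix.mulVec_add, show (g : GL (Fin 8) K).val *ᵥ x = x from hx,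
      show (g : GL (Fin 8) K).val *ᵥ w₀ = w₀ from hfw]
  · rw [pB_eq, hN, hNw, sub_zero, sub_zero] at hB
    rw [hB, show (x + w₀) 0 + (x + w₀) 7 = 0 by simp only [Pi.add_apply]; linear_combination htx + htw]
    simp [h4]

/-- Over an algebraically closed field the automorphism is conjugate into the stabiliser of the idempotent. -/
theorem exists_conj_stab [IsAlgClosed K] :
    ∃ h : G2 K, h * g * h⁻¹ ∈ stab (F := K) := by
  obtain ⟨x, hx, hd⟩ := exists_fixed_split g hn hnK hodd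
  set t := x 0 + x 7 with ht
  obtain ⟨r, hr⟩ := IsAlgClosed.exists_root (X ^ 2 - C t * X + C (zN x) : K[X]) (by
    rw [show (X ^ 2 - C t * X + C (zN x) : K[X]) = C 1 * X ^ 2 + C (-t) * X + C (zN x) by simp [sub_eq_add_neg],
      degree_quadratic one_ne_zero]
    decide)
  simp only [IsRoot.def, eval_add, eval_sub, eval_mul, eval_pow, eval_X, eval_C] at hr
  have hne : t - 2 * r ≠ 0 := fun h => hd (by
    linear_combination 4 * (-hr) + (t - 2 * r) * h)
  set e := (t - 2 * r)⁻¹ • (x + (-r) • (oneZ : Fin 8 → K)) with he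
  have hN : zN e = 0 := by
    rw [he, zN_smul, zN_add_oneZ]
    linear_combination (t - 2 * r)⁻¹ ^ 2 * hr
  have hte : e 0 + e 7 = 1 := by
    simp [he, oneZ, Zv_zero, Zv_seven]
    field_simp
    linear_combination -ht
  have hy : e ∈ Idem K := by
    refine ⟨hte, ?_⟩
    rw [zN, sub_eq_zero] at hN
    exact hN
  obtain ⟨k, hk⟩ := exists_act_eq hy
  refine ⟨k⁻¹, ?_⟩
  show act ((k⁻¹ * g * k⁻¹⁻¹ : G2 K) : GL (Fin 8) K) e₀ = e₀
  refine act_injective (k : GL (Fin 8) K) ?_
  rw [← act_mul, inv_inv, show k * (k⁻¹ * g * k) = g * k by group, act_mul, hk, he]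
  show (g : GL (Fin 8) K).val *ᵥ _ = _
  rw [Matrix.mulVec_smul, Matrix.mulVec_add, Matrix.mulVec_smul,
    show (g : GL (Fin 8) K).val *ᵥ oneZ = oneZ from act_one g, show (g : GL (Fin 8) K).val *ᵥ x = x from hx]

end Average

end Cfsg.Agent.G2Sections
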