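import Mathlib.GroupTheory.SpecificGroups.Alternating
import Mathlib.GroupTheory.Perm.Cycle.Type
import Cfsg.Agent.EqLemmas

/-!
# Abelian two-generated 2-subgroups of the alternating group of degree eight

* `card_image_le_eight` : they have order at most eight.
* `two_gen`             : subgroups of two-generated abelian groups are two-generated.
-/

set_option autoImplicit false

namespace Cfsg.Agent.G2Sections

open Equiv

/-- Two four-cycles. -/
def rot44 : Perm (Fin 8) :=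
  ⟨![1, 2, 3, 0, 5, 6, 7, 4], ![3, 0, 1, 2, 7, 4, 5, 6], by decide, by decide⟩

/-- A four-cycle and a transposition. -/
def rot42 : Perm (Fin 8) :=
  ⟨![1, 2, 3, 0, 5, 4, 6, 7], ![3, 0, 1, 2, 5, 4, 6, 7], by decide, by decide⟩

/-- The first four-cycle. -/
def rotFst : Perm (Fin 8) :=
  ⟨![1, 2, 3, 0, 4, 5, 6, 7], ![3, 0, 1, 2, 4, 5, 6, 7], by decide, by decide⟩

/-- The second four-cycle. -/
def rotSnd : Perm (Fin 8) :=
  ⟨![0, 1, 2, 3, 5, 6, 7, 4], ![0, 1, 2, 3, 7, 4, 5, 6], by decide, by decide⟩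

theorem rot44_type : rot44.cycleType = {4, 4} := by decide +kernel

theorem rot42_type : rot42.cycleType = {4, 2} := by decide +kernel

theorem rot_sign : Perm.sign rotFst = -1 ∧ Perm.sign rotSnd = -1 := by decide +kernel

/-- The maps commuting with two four-cycles are determined by two values. -/
def cand44 (y z : Fin 8) (i : Fin 8) : Fin 8 :=
  ![y, rot44 y, rot44 (rot44 y), rot44 (rot44 (rot44 y)), z, rot44 z, rot44 (rot44 z), rot44 (rot44 (rot44 z))] i

/-- The maps commuting with a four-cycle and a transposition are determined by four values. -/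
def cand42 (y z u w : Fin 8) (i : Fin 8) : Fin 8 :=
  ![y, rot42 y, rot42 (rot42 y), rot42 (rot42 (rot42 y)), z, rot42 z, u, w] i

theorem cand44_facts : ∀ y z : Fin 8, (∀ i, cand44 y z (cand44 y z (cand44 y z (cand44 y z i))) = i) →
    (∀ i, cand44 y z (cand44 y z i) = i) ∨ (∀ i, cand44 y z (cand44 y z i) = rot44 (rot44 i)) ∨
      (∃ m n : Fin 4, (m.val + n.val) % 2 = 1 ∧ ∀ i, cand44 y z i = (rotFst ^ m.val * rotSnd ^ n.val : Perm (Fin 8)) i) := by
  decide +kernel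

theorem cand42_facts : ∀ y : Fin 8, rot42 (rot42 y) ≠ y → ∀ z : Fin 8, rot42 z ≠ z ∧ rot42 (rot42 z) = z →
    ∀ u : Fin 8, rot42 u = u → ∀ w : Fin 8, rot42 w = w →
      (∀ i, cand42 y z u w (cand42 y z u w i) = i) ∨
        (∀ i, cand42 y z u w (cand42 y z u w i) = rot42 (rot42 i)) ∨ z = u ∨ u = w := by
  decide +kernel

theorem sq_mem_rot44 {b : Perm (Fin 8)} (hc : rot44 * b = b * rot44) (hs : Perm.sign b = 1) (hb : b ^ 4 = 1) :
    b ^ 2 = 1 ∨ b ^ 2 = rot44 ^ 2 := by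
  have h : ∀ i, rot44 (b i) = b (rot44 i) := fun i => congrArg (fun p : Perm (Fin 8) => p i) hc
  have e : ⇑b = cand44 (b 0) (b 4) := by
    funext i
    fin_cases i <;> simp [cand44, h] <;> rfl
  have h4 : ∀ i, b (b (b (b i))) = i := fun i => by
    have := congrArg (fun p : Perm (Fin 8) => p i) hb
    simpa [pow_succ, mul_assoc] using this
  rcases cand44_facts (b 0) (b 4) (by rw [← e]; exact h4) with h1 | h1 | ⟨m, n, hmn, h1⟩
  · rw [← e] at h1
    exact Or.inl (Equiv.ext fun i => by rw [pow_two]; exact h1 i)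
  · rw [← e] at h1
    exact Or.inr (Equiv.ext fun i => by rw [pow_two, pow_two]; exact h1 i)
  · rw [← e] at h1
    rw [Equiv.ext h1, map_mul, map_pow, map_pow, rot_sign.1, rot_sign.2, ← pow_add, ← Nat.mod_add_div (m.val + n.val) 2,
      hmn, pow_add, pow_mul] at hs
    simp at hs

theorem sq_mem_rot42 {b : Perm (Fin 8)} (hc : rot42 * b = b * rot42) :
    b ^ 2 = 1 ∨ b ^ 2 = rot42 ^ 2 := by
  have h : ∀ i, rot42 (b i) = b (rot42 i) := fun i => congrArg (fun p : Perm (Fin 8) => p i) hc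
  have e : ⇑b = cand42 (b 0) (b 4) (b 6) (b 7) := by
    funext i
    fin_cases i <;> simp [cand42, h] <;> rfl
  have hne : ∀ i j : Fin 8, i ≠ j → b i ≠ b j := fun i j hij he => hij (b.injective he)
  rcases cand42_facts (b 0) (by rw [h, h]; exact hne _ _ (by decide)) (b 4)
    ⟨by rw [h]; exact hne _ _ (by decide), by rw [h, h]; rfl⟩ (b 6) (by rw [h]; rfl) (b 7) (by rw [h]; rfl) with
    h1 | h1 | h1 | h1
  · rw [← e] at h1
    exact Or.inl (Equiv.ext fun i => by rw [pow_two]; exact h1 i)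
  · rw [← e] at h1
    exact Or.inr (Equiv.ext fun i => by rw [pow_two, pow_two]; exact h1 i)
  · exact absurd h1 (hne _ _ (by decide))
  · exact absurd h1 (hne _ _ (by decide))

/-- The cycle types of the elements of order four. -/
theorem type_of_order_four {a : Perm (Fin 8)} (ha : a ^ 4 = 1) (ha2 : a ^ 2 ≠ 1) (hs : Perm.sign a = 1) :
    a.cycleType = {4, 4} ∨ a.cycleType = {4, 2} := by
  have hlcm : orderOf a = 4 := orderOf_eq_prime_pow (p := 2) (n := 1) (by simpa using ha2) (by simpa using ha)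
  have hparts : ∀ k ∈ a.cycleType, k = 2 ∨ k = 4 := fun k hk => by
    have h2 := Perm.two_le_of_mem_cycleType hk
    have hd := Perm.dvd_of_mem_cycleType hk
    rw [hlcm] at hd
    have h4 := Nat.le_of_dvd (by norm_num) hd
    rcases (by omega : k = 2 ∨ k = 3 ∨ k = 4) with h | h | h <;> subst h <;> simp_all
  have h4 : 4 ∈ a.cycleType := by
    by_contra h
    have : a.cycleType.lcm ∣ 2 := Multiset.lcm_dvd.2 fun k hk => by
      rcases hparts k hk with rfl | rfl
      · rfl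
      · exact absurd hk h
    rw [Perm.lcm_cycleType, hlcm] at this
    exact absurd this (by norm_num)
  obtain ⟨m, hm⟩ := Multiset.exists_cons_of_mem h4
  have hsum : a.cycleType.sum ≤ 8 := by
    rw [Perm.sum_cycleType]; exact (Finset.card_le_univ _).trans_eq (Fintype.card_fin 8)
  rw [hm] at hparts hsum ⊢
  rw [Multiset.sum_cons] at hsum
  rw [Perm.sign_of_cycleType, hm] at hs
  simp only [Multiset.sum_cons, Multiset.card_cons] at hs
  rcases Multiset.empty_or_exists_mem m with rfl | ⟨k, hk⟩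
  · exact absurd hs (by decide)
  obtain ⟨m', rfl⟩ := Multiset.exists_cons_of_mem hk
  rw [Multiset.sum_cons] at hsum
  rcases Multiset.empty_or_exists_mem m' with rfl | ⟨l, hl⟩
  · rcases hparts k (by simp) with rfl | rfl
    · exact Or.inr rfl
    · exact Or.inl rfl
  · exfalso
    obtain ⟨m'', rfl⟩ := Multiset.exists_cons_of_mem hl
    rw [Multiset.sum_cons] at hsum
    rcases hparts k (by simp) with rfl | rfl <;> rcases hparts l (by simp) with rfl | rfl <;> try omega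
    rcases Multiset.empty_or_exists_mem m'' with rfl | ⟨j, hj⟩
    · exact absurd hs (by decide)
    · have := Multiset.le_sum_of_mem hj
      rcases hparts j (by simp [hj]) with rfl | rfl <;> omega

/-- An even permutation commuting with one of order four has its square in the group generated by the latter. -/
theorem sq_of_commute {a b : Perm (Fin 8)} (ha : a ^ 4 = 1) (ha2 : a ^ 2 ≠ 1) (hsa : Perm.sign a = 1)
    (hb : b ^ 4 = 1) (hsb : Perm.sign b = 1) (hc : a * b = b * a) : b ^ 2 = 1 ∨ b ^ 2 = a ^ 2 := by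
  obtain ⟨r, hr, hkey⟩ : ∃ r : Perm (Fin 8), IsConj r a ∧ ∀ c : Perm (Fin 8), r * c = c * r →
      Perm.sign c = 1 → c ^ 4 = 1 → c ^ 2 = 1 ∨ c ^ 2 = r ^ 2 := by
    rcases type_of_order_four ha ha2 hsa with h | h
    · exact ⟨rot44, Perm.isConj_iff_cycleType_eq.2 (rot44_type.trans h.symm), fun c h1 h2 h3 => sq_mem_rot44 h1 h2 h3⟩
    · exact ⟨rot42, Perm.isConj_iff_cycleType_eq.2 (rot42_type.trans h.symm), fun c h1 _ _ => sq_mem_rot42 h1⟩
  obtain ⟨g, rfl⟩ := isConj_iff.1 hr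
  rcases hkey (g⁻¹ * b * g) (by
      have := congrArg (fun x => g⁻¹ * x * g) hc
      simpa [mul_assoc] using this)
    (by simp [map_mul, map_inv, hsb])
    (by rw [show g⁻¹ * b * g = g⁻¹ * b * g⁻¹⁻¹ by rw [inv_inv], conj_pow, hb]; simp) with h | h <;>
    rw [show g⁻¹ * b * g = g⁻¹ * b * g⁻¹⁻¹ by rw [inv_inv], conj_pow, inv_inv] at h
  · exact Or.inl (by simpa [mul_assoc, mul_eq_one_iff_eq_inv', ← mul_assoc] using congrArg (fun x => g * x * g⁻¹) h)
  · refine Or.inr ?_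
    rw [conj_pow, ← h]
    group

theorem pow_four_of_two_pow {x : Perm (Fin 8)} {k : ℕ} (hx : x ^ 2 ^ k = 1) (hs : Perm.sign x = 1) : x ^ 4 = 1 := by
  refine orderOf_dvd_iff_pow_eq_one.1 ?_
  rw [← Perm.lcm_cycleType]
  refine Multiset.lcm_dvd.2 fun j hj => ?_
  obtain ⟨i, -, rfl⟩ := (Nat.dvd_prime_pow Nat.prime_two).1
    ((Perm.dvd_of_mem_cycleType hj).trans (orderOf_dvd_of_pow_eq_one hx))
  have hle : 2 ^ i ≤ 8 := (Multiset.le_sum_of_mem hj).trans (by
    rw [Perm.sum_cycleType]; exact (Finset.card_le_univ _).trans_eq (Fintype.card_fin 8))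
  have hi : i ≤ 3 := (Nat.pow_le_pow_iff_right (le_refl 2)).1 (hle.trans_eq (by norm_num))
  rcases (by omega : i ≤ 2 ∨ i = 3) with h | rfl
  · exact (Nat.pow_dvd_pow 2 h).trans (by norm_num)
  · exfalso
    obtain ⟨m, hm⟩ := Multiset.exists_cons_of_mem hj
    have hsum : x.cycleType.sum ≤ 8 := by
      rw [Perm.sum_cycleType]; exact (Finset.card_le_univ _).trans_eq (Fintype.card_fin 8)
    rw [hm, Multiset.sum_cons] at hsum
    rcases Multiset.empty_or_exists_mem m with rfl | ⟨l, hl⟩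
    · rw [Perm.sign_of_cycleType, hm] at hs
      exact absurd hs (by decide)
    · have := Multiset.le_sum_of_mem hl
      have := Perm.two_le_of_mem_cycleType (σ := x) (hm ▸ Multiset.mem_cons_of_mem hl)
      omega

/-- Two commuting elements of 2-power order generate at most eight elements. -/
theorem card_image_le_eight {c₁ c₂ : alternatingGroup (Fin 8)} {k : ℕ} (h₁ : c₁ ^ 2 ^ k = 1) (h₂ : c₂ ^ 2 ^ k = 1)
    (hc : c₁ * c₂ = c₂ * c₁) (S : Set (alternatingGroup (Fin 8)))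
    (hS : ∀ x ∈ S, ∃ i j : ℤ, x = c₁ ^ i * c₂ ^ j) : S.ncard ≤ 8 := by
  have e₁ : c₁ ^ 4 = 1 := Subtype.ext (pow_four_of_two_pow (congrArg Subtype.val h₁)
    (Equiv.Perm.mem_alternatingGroup.1 c₁.2))
  have e₂ : c₂ ^ 4 = 1 := Subtype.ext (pow_four_of_two_pow (congrArg Subtype.val h₂)
    (Equiv.Perm.mem_alternatingGroup.1 c₂.2))
  wlog hsw : c₁ ^ 2 = 1 → c₂ ^ 2 = 1 generalizing c₁ c₂
  · push Not at hsw
    refine this h₂ h₁ hc.symm (fun x hx => ?_) e₂ e₁ (fun h => absurd h hsw.2)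
    obtain ⟨i, j, rfl⟩ := hS x hx
    exact ⟨j, i, (Commute.zpow_zpow hc i j).eq⟩
  have key : c₂ ^ 2 = 1 ∨ c₂ ^ 2 = c₁ ^ 2 := by
    by_cases h : c₁ ^ 2 = 1
    · exact Or.inl (hsw h)
    rcases sq_of_commute (congrArg Subtype.val e₁) (fun h' => h (Subtype.ext h'))
      (Equiv.Perm.mem_alternatingGroup.1 c₁.2) (congrArg Subtype.val e₂) (Equiv.Perm.mem_alternatingGroup.1 c₂.2)
      (congrArg Subtype.val hc) with h' | h'
    · exact Or.inl (Subtype.ext h')
    · exact Or.inr (Subtype.ext h')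
  obtain ⟨t, ht⟩ : ∃ t : ℤ, c₂ ^ (2 : ℤ) = c₁ ^ t := by
    rcases key with h | h
    · exact ⟨0, by rw [zpow_ofNat, h, zpow_zero]⟩
    · exact ⟨2, by rw [zpow_ofNat, zpow_ofNat, h]⟩
  have hsub : S ⊆ (fun p : Fin 4 × Fin 2 => c₁ ^ (p.1 : ℕ) * c₂ ^ (p.2 : ℕ)) '' Set.univ := by
    intro x hx
    obtain ⟨i, j, rfl⟩ := hS x hx
    refine ⟨(⟨((i + t * (j / 2)) % 4).toNat, by omega⟩, ⟨(j % 2).toNat, by omega⟩), trivial, ?_⟩
    have hm : c₁ ^ ((i + t * (j / 2)) % 4) = c₁ ^ (i + t * (j / 2)) := by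
      conv_rhs => rw [← Int.emod_add_mul_ediv (i + t * (j / 2)) 4, zpow_add, zpow_mul,
        show c₁ ^ (4 : ℤ) = 1 from (zpow_ofNat c₁ 4).trans e₁, one_zpow, mul_one]
    show c₁ ^ (((i + t * (j / 2)) % 4).toNat) * c₂ ^ ((j % 2).toNat) = _
    rw [← zpow_natCast, ← zpow_natCast, Int.toNat_of_nonneg (Int.emod_nonneg _ (by norm_num)),
      Int.toNat_of_nonneg (Int.emod_nonneg _ (by norm_num)), hm, zpow_add, mul_assoc, zpow_mul, ← ht, ← zpow_mul,
      ← zpow_add, add_comm, Int.emod_add_mul_ediv]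
  refine (Set.ncard_le_ncard hsub).trans ((Set.ncard_image_le Set.finite_univ).trans ?_)
  rw [Set.ncard_univ, Nat.card_prod, Nat.card_fin, Nat.card_fin]

/-- Subgroups of abelian groups generated by two elements are generated by two elements. -/
theorem two_gen {G : Type*} [Group G] {s t : G} (hc : s * t = t * s) (C : Subgroup G)
    (hC : ∀ x ∈ C, ∃ i j : ℤ, x = s ^ i * t ^ j) :
    ∃ c₁ ∈ C, ∃ c₂ ∈ C, c₁ * c₂ = c₂ * c₁ ∧ ∀ x ∈ C, ∃ i j : ℤ, x = c₁ ^ i * c₂ ^ j := by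
  have comm : ∀ i j : ℤ, Commute (s ^ i) (t ^ j) := fun i j => Commute.zpow_zpow hc i j
  have hmul : ∀ i j i' j' : ℤ, s ^ i * t ^ j * (s ^ i' * t ^ j') = s ^ (i + i') * t ^ (j + j') := fun i j i' j' => by
    rw [zpow_add, zpow_add, mul_assoc, ← mul_assoc (t ^ j), ← (comm i' j).eq]
    simp only [mul_assoc]
  have hinv : ∀ i j : ℤ, (s ^ i * t ^ j)⁻¹ = s ^ (-i) * t ^ (-j) := fun i j => by
    refine inv_eq_of_mul_eq_one_right ?_
    rw [hmul, add_neg_cancel, add_neg_cancel, zpow_zero, zpow_zero, mul_one]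
  let L₁ : AddSubgroup ℤ :=
    { carrier := {i | s ^ i ∈ C}
      zero_mem' := by simp
      add_mem' := fun {i i'} h h' => by simpa [zpow_add] using mul_mem h h'
      neg_mem' := fun {i} h => by
        show s ^ (-i) ∈ C
        rw [zpow_neg]
        exact inv_mem (show s ^ i ∈ C from h) }
  let L₂ : AddSubgroup ℤ :=
    { carrier := {j | ∃ i : ℤ, s ^ i * t ^ j ∈ C}
      zero_mem' := ⟨0, by simp⟩
      add_mem' := fun {j j'} ⟨i, h⟩ ⟨i', h'⟩ => ⟨i + i', hmul i j i' j' ▸ mul_mem h h'⟩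
      neg_mem' := fun {j} ⟨i, h⟩ => ⟨-i, hinv i j ▸ inv_mem h⟩ }
  obtain ⟨d₁, hd₁⟩ := Int.subgroup_cyclic L₁
  obtain ⟨d₂, hd₂⟩ := Int.subgroup_cyclic L₂
  have h1 : s ^ d₁ ∈ C := (show d₁ ∈ L₁ by rw [hd₁]; exact AddSubgroup.subset_closure rfl)
  obtain ⟨i₂, h2⟩ : d₂ ∈ L₂ := by rw [hd₂]; exact AddSubgroup.subset_closure rfl
  refine ⟨s ^ d₁, h1, s ^ i₂ * t ^ d₂, h2, ?_, fun x hx => ?_⟩
  · exact (((Commute.refl s).zpow_zpow d₁ i₂).mul_right (comm d₁ d₂)).eq
  obtain ⟨i, j, rfl⟩ := hC x hx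
  have hj : j ∈ L₂ := ⟨i, hx⟩
  rw [hd₂, AddSubgroup.mem_closure_singleton] at hj
  obtain ⟨n, rfl⟩ := hj
  have hn : (s ^ i₂ * t ^ d₂) ^ n = s ^ (i₂ * n) * t ^ (d₂ * n) := by
    rw [(comm i₂ d₂).mul_zpow, ← zpow_mul, ← zpow_mul]
  have hi : i - i₂ * n ∈ L₁ := by
    show s ^ (i - i₂ * n) ∈ C
    have := mul_mem hx (inv_mem (zpow_mem h2 n))
    rw [hn, hinv, hmul] at this
    simpa [mul_comm d₂, ← sub_eq_add_neg] using this
  rw [hd₁, AddSubgroup.mem_closure_singleton] at hi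
  obtain ⟨m, hm⟩ := hi
  refine ⟨m, n, ?_⟩
  rw [hn, ← mul_assoc, ← zpow_mul, ← zpow_add]
  rw [smul_eq_mul] at hm ⊢
  rw [show d₁ * m + i₂ * n = i by linear_combination hm, mul_comm d₂]

end Cfsg.Agent.G2Sections
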