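import Cfsg.Agent.Lib.G2Sections.Conj
import Cfsg.Agent.Lib.G2Oct.Orders
import Cfsg.Agent.Lib.LinearPGroup.Basic
import Cfsg.Agent.Lib.PGroup.Basic
import Cfsg.Agent.EqLemmas

/-!
# Elements of order five of automorphism groups of Zorn's algebra, away from characteristic five

* `roots_sq`                 : the roots of the square of a matrix.
* `eq_one_of_conj_sq`        : an element of order five is not conjugate to its square.
* `eigenspace_lt_five`       : its eigenspaces other than that of one have dimension less than five.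
* `five_group_comm`          : the 5-subgroups are abelian.
-/

set_option autoImplicit false

namespace Cfsg.Agent.G2Sections

open Cfsg.Lie Cfsg.Agent.G2Zorn Cfsg.Agent.G2Oct Polynomial
open scoped Matrix commutatorElement

variable {K : Type*} [Field K] [IsAlgClosed K]

/-- The roots of the square of a matrix. -/
theorem charpoly_sq {A : Matrix (Fin 3) (Fin 3) K} {a b c : Kˣ}
    (h : A.charpoly = (X - C (a : K)) * (X - C (b : K)) * (X - C (c : K))) :
    (A ^ 2).charpoly = (X - C ((a ^ 2 : Kˣ) : K)) * (X - C ((b ^ 2 : Kˣ) : K)) * (X - C ((c ^ 2 : Kˣ) : K)) := by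
  refine Polynomial.funext fun x => ?_
  obtain ⟨s, rfl⟩ := IsAlgClosed.exists_pow_nat_eq x two_pos
  have h1 : ∀ u : K, (Matrix.scalar (Fin 3) u - A).det = (u - a) * (u - b) * (u - c) := fun u => by
    rw [← Matrix.eval_charpoly, h]; simp
  have h2 : (Matrix.scalar (Fin 3) s + A).det = -(Matrix.scalar (Fin 3) (-s) - A).det := by
    rw [map_neg, show -Matrix.scalar (Fin 3) s - A = -(Matrix.scalar (Fin 3) s + A) by abel, Matrix.det_neg,
      Fintype.card_fin]
    ring
  rw [Matrix.eval_charpoly, pow_two A, pow_two s, map_mul,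
    show Matrix.scalar (Fin 3) s * Matrix.scalar (Fin 3) s - A * A =
      (Matrix.scalar (Fin 3) s - A) * (Matrix.scalar (Fin 3) s + A) by
      have hc : Matrix.scalar (Fin 3) s * A = A * Matrix.scalar (Fin 3) s :=
        (Matrix.scalar_commute s (fun r' => Commute.all s r') A).eq
      rw [sub_mul, mul_add, mul_add, hc]
      abel,
    Matrix.det_mul, h2, h1, h1]
  simp
  ring

omit [IsAlgClosed K] in
open Classical in
theorem roots8_inv (a b c : Kˣ) (l : K) :
    (roots8 a b c).count l⁻¹ = (roots8 a b c).count l := by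
  classical
  have e : (roots8 a b c).map (·⁻¹) = roots8 a b c := by
    simp only [roots8, Multiset.map_add, Multiset.insert_eq_cons, Multiset.map_cons, Multiset.map_singleton,
      inv_one, Units.val_inv_eq_inv_val, inv_inv]
    refine Multiset.ext.2 fun x => ?_
    simp only [Multiset.count_add, Multiset.count_cons, Multiset.count_singleton]
    omega
  conv_lhs => rw [← e]
  exact Multiset.count_map_eq_count' _ _ inv_injective l

omit [IsAlgClosed K] in
theorem five_count : ∀ i j : ZMod 5,
    (({i, j, -i - j, -i, -j, i + j} : Multiset (ZMod 5)).map (2 * ·)) = {i, j, -i - j, -i, -j, i + j} →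
      i = 0 ∧ j = 0 := by
  decide +kernel

omit [IsAlgClosed K] in
theorem amat_mul (g h : stab (F := K)) : amat (g * h) = amat g * amat h :=
  congrArg Subtype.val (map_mul stabHom g h)

omit [IsAlgClosed K] in
theorem amat_pow (g : stab (F := K)) (n : ℕ) : amat (g ^ n) = amat g ^ n := by
  induction n with
  | zero => rw [pow_zero, pow_zero]; exact congrArg Subtype.val (map_one stabHom)
  | succ n ih => rw [pow_succ, amat_mul, ih, pow_succ]

omit [IsAlgClosed K] in
theorem charpoly_conj (g y : G2 K) :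
    ((((g * y * g⁻¹ : G2 K)) : GL (Fin 8) K) : M8 K).charpoly = ((y : GL (Fin 8) K) : M8 K).charpoly := by
  rw [Subgroup.coe_mul, Subgroup.coe_mul, Subgroup.coe_inv, Units.val_mul, Units.val_mul, Matrix.coe_units_inv]
  exact Matrix.charpoly_units_conj _ _

variable (h5 : (5 : K) ≠ 0)
include h5

/-- A matrix of order five with all roots one is the identity. -/
theorem eq_one_of_roots {A : Matrix (Fin 3) (Fin 3) K}
    (h : A.charpoly = (X - C (1 : K)) * (X - C (1 : K)) * (X - C (1 : K))) (h1 : A ^ 5 = 1) : A = 1 := by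
  have h0 := Matrix.aeval_self_charpoly A
  rw [h] at h0
  simp only [map_mul, map_sub, aeval_X, map_one] at h0
  have hN : (A - 1) * (A - 1) * (A - 1) = 0 := h0
  set N := A - 1 with hNdef
  have hA : A = 1 + N := by rw [hNdef]; abel
  have e : A ^ 5 = 1 + (5 : K) • N + (10 : K) • (N * N) := by
    have h4 : ∀ Y, N * (N * (N * Y)) = 0 := fun Y => by rw [← mul_assoc, ← mul_assoc, hN, zero_mul]
    have h3' : N * (N * N) = 0 := by rw [← mul_assoc, hN]
    rw [hA]
    simp only [pow_succ, pow_zero, one_mul, add_mul, mul_add, mul_one, mul_assoc, h3', add_zero]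
    module
  rw [h1, add_assoc, left_eq_add] at e
  have e2 : (5 : K) • (N * N) = 0 := by
    have := congrArg (fun Y => N * Y) e
    simp only [mul_add, mul_smul_comm, mul_zero] at this
    rwa [← mul_assoc N N N, hN, smul_zero, add_zero] at this
  have hNN : N * N = 0 := (smul_eq_zero.1 e2).resolve_left h5
  rw [hNN, smul_zero, add_zero] at e
  rw [hA, (smul_eq_zero.1 e).resolve_left h5, add_zero]

/-- An element of order five in the stabiliser, with its roots. -/
theorem exists_data (y : G2 K) (hy : y ^ 5 = 1) :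
    ∃ (h : G2 K) (s : stab (F := K)) (a b c : Kˣ), (s : G2 K) = h * y * h⁻¹ ∧ a ^ 5 = 1 ∧ b ^ 5 = 1 ∧ c ^ 5 = 1 ∧
      a * b * c = 1 ∧ (amat s).charpoly = (X - C (a : K)) * (X - C (b : K)) * (X - C (c : K)) ∧
      amat s ^ 5 = 1 ∧ ((((h * y * h⁻¹ : G2 K)) : GL (Fin 8) K) : M8 K).charpoly.roots = roots8 a b c := by
  obtain ⟨h, hh⟩ := exists_conj_stab y hy (by exact_mod_cast h5) (by decide)
  set s : stab (F := K) := ⟨h * y * h⁻¹, hh⟩ with hs
  have hs5 : s ^ 5 = 1 := Subtype.ext (by
    rw [SubmonoidClass.coe_pow, hs]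
    show (h * y * h⁻¹) ^ 5 = 1
    rw [conj_pow, hy, mul_one, mul_inv_cancel])
  have hA5 : amat s ^ 5 = 1 := by
    rw [← amat_pow, hs5]
    exact congrArg Subtype.val (map_one stabHom)
  obtain ⟨a, b, c, habc, hA, hR⟩ := exists_roots_stab s
  have hroot : ∀ u : Kˣ, (amat s).charpoly.IsRoot (u : K) → u ^ 5 = 1 := by
    intro u hu
    rw [IsRoot.def, Matrix.eval_charpoly] at hu
    obtain ⟨v, hv0, hv⟩ := Matrix.exists_mulVec_eq_zero_iff.2 hu
    rw [Matrix.sub_mulVec, sub_eq_zero, Matrix.scalar_apply, ← Matrix.smul_one_eq_diagonal, Matrix.smul_mulVec,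
      Matrix.one_mulVec] at hv
    have hk : ∀ k : ℕ, (amat s ^ k) *ᵥ v = ((u : K) ^ k) • v := fun k => by
      induction k with
      | zero => simp
      | succ k ih => rw [pow_succ, ← Matrix.mulVec_mulVec, ← hv, Matrix.mulVec_smul, ih, smul_smul, pow_succ']
    have := hk 5
    rw [hA5, Matrix.one_mulVec] at this
    refine Units.ext ?_
    rw [Units.val_pow_eq_pow_val, Units.val_one]
    exact smul_left_injective K hv0 (this.symm.trans (one_smul K v).symm)
  exact ⟨h, s, a, b, c, rfl, hroot a (by simp [hA]), hroot b (by simp [hA]), hroot c (by simp [hA]), habc, hA, hA5, hR⟩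

/-- An element of order five is not conjugate to its square. -/
theorem eq_one_of_conj_sq (y : G2 K) (hy : y ^ 5 = 1) (g : G2 K) (hg : g * y * g⁻¹ = y ^ 2) : y = 1 := by
  classical
  obtain ⟨h, s, a, b, c, hs, ha, hb, hc, habc, hA, hA5, hR⟩ := exists_data h5 y hy
  have hR2 : ((((s ^ 2 : stab (F := K)) : G2 K) : GL (Fin 8) K) : M8 K).charpoly.roots =
      roots8 (a ^ 2) (b ^ 2) (c ^ 2) := by
    rw [charpoly_stab (s ^ 2) (a := a ^ 2) (b := b ^ 2) (c := c ^ 2) (by rw [← mul_pow, ← mul_pow, habc, one_pow])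
      (by rw [amat_pow, charpoly_sq hA]), Polynomial.roots_multiset_prod_X_sub_C]
  have e : roots8 (a ^ 2) (b ^ 2) (c ^ 2) = roots8 a b c := by
    rw [← hR2, ← hR]
    have e1 : ((s ^ 2 : stab (F := K)) : G2 K) = (h * g) * y * (h * g)⁻¹ := by
      rw [SubmonoidClass.coe_pow, hs, conj_pow, ← hg]; group
    rw [e1, charpoly_conj, charpoly_conj]
  obtain ⟨ζ, hζ⟩ : ∃ ζ : K, IsPrimitiveRoot ζ 5 :=
    haveI : NeZero ((5 : ℕ) : K) := ⟨by exact_mod_cast h5⟩
    HasEnoughRootsOfUnity.exists_primitiveRoot K 5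
  let φ : ZMod 5 → K := fun i => ζ ^ i.val
  have hφ : Function.Injective φ := fun i j hij =>
    ZMod.val_injective 5 (hζ.pow_inj (ZMod.val_lt i) (ZMod.val_lt j) hij)
  have hadd : ∀ i j, φ (i + j) = φ i * φ j := fun i j => by
    simp only [φ, ZMod.val_add, ← pow_add]
    exact (pow_eq_pow_mod _ hζ.pow_eq_one).symm
  have hlog : ∀ u : Kˣ, u ^ 5 = 1 → ∃ i, φ i = (u : K) := fun u hu => by
    obtain ⟨i, hi, e⟩ := hζ.eq_pow_of_pow_eq_one (ξ := (u : K)) (by rw [← Units.val_pow_eq_pow_val, hu, Units.val_one])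
    exact ⟨(i : ZMod 5), by simp only [φ]; rw [ZMod.val_natCast, Nat.mod_eq_of_lt hi, e]⟩
  obtain ⟨i, hi⟩ := hlog a ha
  obtain ⟨j, hj⟩ := hlog b hb
  have h0 : φ 0 = 1 := by simp [φ]
  have hinv : ∀ i, φ (-i) = (φ i)⁻¹ := fun i => eq_inv_of_mul_eq_one_left (by rw [← hadd, neg_add_cancel, h0])
  have hc' : (c : K) = φ (-i - j) := by
    rw [show -i - j = -(i + j) by ring, hinv, hadd, hi, hj]
    exact eq_inv_of_mul_eq_one_right (by rw [← Units.val_mul, ← Units.val_mul, habc, Units.val_one])
  have h2 : ∀ i, φ (2 * i) = φ i ^ 2 := fun i => by rw [two_mul, hadd, pow_two]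
  have e8 : roots8 a b c = 1 ::ₘ 1 ::ₘ (({i, j, -i - j, -i, -j, i + j} : Multiset (ZMod 5)).map φ) := by
    simp only [roots8, Multiset.insert_eq_cons, Multiset.map_cons, Multiset.map_singleton, hi, hj, ← hc',
      hinv, hadd, Units.val_inv_eq_inv_val, Multiset.cons_add, Multiset.singleton_add]
    rw [show (c : K)⁻¹ = (a : K) * b from inv_eq_of_mul_eq_one_left
      (by rw [← Units.val_mul, ← Units.val_mul, habc, Units.val_one])]
  have e2 : roots8 (a ^ 2) (b ^ 2) (c ^ 2) =
      1 ::ₘ 1 ::ₘ ((({i, j, -i - j, -i, -j, i + j} : Multiset (ZMod 5)).map (2 * ·)).map φ) := by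
    simp only [roots8, Multiset.insert_eq_cons, Multiset.map_cons, Multiset.map_singleton, h2, hi, hj, ← hc',
      hinv, hadd, Units.val_inv_eq_inv_val, Units.val_pow_eq_pow_val, Multiset.cons_add, Multiset.singleton_add,
      inv_pow]
    rw [← inv_pow (c : K), show (c : K)⁻¹ = (a : K) * b from inv_eq_of_mul_eq_one_left
      (by rw [← Units.val_mul, ← Units.val_mul, habc, Units.val_one]), mul_pow]
  rw [e8, e2, Multiset.cons_inj_right, Multiset.cons_inj_right] at e
  obtain ⟨rfl, rfl⟩ := five_count i j (Multiset.map_injective hφ e)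
  rw [← hi, ← hj, hc', show (-0 - 0 : ZMod 5) = 0 by ring, h0] at hA
  have hs1 : s = 1 := stabHom_injective (Subtype.ext ((eq_one_of_roots h5 hA hA5).trans (by rw [map_one]; rfl)))
  rw [hs1, OneMemClass.coe_one] at hs
  exact conj_eq_one_iff.1 hs.symm

/-- An element of order five has an eigenvector of an eigenvalue other than one, of multiplicity below five. -/
theorem exists_eigen (y : G2 K) (hy : y ^ 5 = 1) (hy1 : y ≠ 1) :
    ∃ l : K, l ≠ 1 ∧ 0 < Module.finrank K (Module.End.eigenspace (Matrix.toLin' ((y : GL (Fin 8) K) : M8 K)) l) ∧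
      Module.finrank K (Module.End.eigenspace (Matrix.toLin' ((y : GL (Fin 8) K) : M8 K)) l) < 5 := by
  classical
  obtain ⟨h, s, a, b, c, hs, ha, hb, hc, habc, hA, hA5, hR⟩ := exists_data h5 y hy
  have hroots : ((y : GL (Fin 8) K) : M8 K).charpoly.roots = roots8 a b c := by
    rw [← hR]
    rw [charpoly_conj]
  obtain ⟨l, hl, hl1⟩ : ∃ l, l ∈ roots8 a b c ∧ l ≠ 1 := by
    by_contra hc'
    push Not at hc'
    have hav : ∀ u : Kˣ, (u : K) ∈ roots8 a b c → u = 1 := fun u hu => Units.val_eq_one.1 (hc' _ hu)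
    rw [hav a (by simp [roots8]), hav b (by simp [roots8]), hav c (by simp [roots8]), Units.val_one] at hA
    have hs1 : s = 1 := stabHom_injective (Subtype.ext ((eq_one_of_roots h5 hA hA5).trans (by rw [map_one]; rfl)))
    rw [hs1, OneMemClass.coe_one] at hs
    exact hy1 (conj_eq_one_iff.1 hs.symm)
  refine ⟨l, hl1, ?_, ?_⟩
  · have hr : ((y : GL (Fin 8) K) : M8 K).charpoly.IsRoot l :=
      (Polynomial.mem_roots (Matrix.charpoly_monic _).ne_zero).1 (hroots ▸ hl)
    rw [IsRoot.def, Matrix.eval_charpoly] at hr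
    obtain ⟨v, hv0, hv⟩ := Matrix.exists_mulVec_eq_zero_iff.2 hr
    rw [Matrix.sub_mulVec, sub_eq_zero, Matrix.scalar_apply, ← Matrix.smul_one_eq_diagonal, Matrix.smul_mulVec,
      Matrix.one_mulVec] at hv
    exact Submodule.one_le_finrank_iff.2 ((Submodule.ne_bot_iff _).2
      ⟨v, Module.End.mem_eigenspace_iff.2 (by rw [Matrix.toLin'_apply, hv]), hv0⟩)
  · have h1 := LinearMap.finrank_eigenspace_le (Matrix.toLin' ((y : GL (Fin 8) K) : M8 K)) l
    rw [Matrix.charpoly_toLin', ← Polynomial.count_roots, hroots] at h1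
    refine lt_of_le_of_lt h1 ?_
    have hsym := roots8_inv a b c l
    have hl0 : l ≠ 0 := by
      rintro rfl
      simp [roots8, Units.ne_zero, eq_comm] at hl
    have hne : l⁻¹ ≠ l := fun e => hl1 (by
      have h5' : l ^ 5 = 1 := by
        simp only [roots8, Multiset.mem_add, Multiset.insert_eq_cons, Multiset.mem_cons, Multiset.mem_singleton] at hl
        rcases hl with (h | h | h | h | h) | (h | h | h) <;> subst h <;>
          simp [← Units.val_pow_eq_pow_val, ha, hb, hc, inv_pow]
      have : l * l = 1 := by nth_rw 1 [← e]; exact inv_mul_cancel₀ hl0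
      calc l = l * (l * l) * (l * l) := by rw [this, mul_one, mul_one]
        _ = l ^ 5 := by ring
        _ = 1 := h5')
    have hle : (roots8 a b c).count l + (roots8 a b c).count l⁻¹ + (roots8 a b c).count 1 ≤ 8 := by
      have key : ∀ M : Multiset K, M.count l + M.count l⁻¹ + M.count 1 ≤ Multiset.card M := fun M => by
        induction M using Multiset.induction with
        | empty => simp
        | cons x M ih =>
          simp only [Multiset.count_cons, Multiset.card_cons]
          have hne1 : l⁻¹ ≠ 1 := fun e => hl1 (inv_eq_one.1 e)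
          split_ifs <;> first | omega | (exfalso; subst_vars; simp_all)
      exact (key _).trans (le_of_eq (by simp [roots8]))
    have h11 : 2 ≤ (roots8 a b c).count 1 := by
      simp [roots8, Multiset.count_cons]; omega
    omega

/-- The 5-subgroups are abelian. -/
theorem five_group_comm {P : Type*} [Group P] [Finite P] (hP : IsPGroup 5 P) (ι : P →* G2 K)
    (hι : Function.Injective ι) (x y : P) : x * y = y * x := by
  have : Fact (Nat.Prime 5) := ⟨by norm_num⟩
  by_contra hne
  have hcomm : commutator P ≠ ⊥ := fun h => hne (by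
    have : ⁅x, y⁆ ∈ commutator P := by
      rw [_root_.commutator_def]; exact Subgroup.commutator_mem_commutator (Subgroup.mem_top x) (Subgroup.mem_top y)
    rw [h, Subgroup.mem_bot] at this
    exact commutatorElement_eq_one_iff_mul_comm.1 this)
  obtain ⟨z, hzc, hz, hzo⟩ : ∃ z, z ∈ commutator P ∧ z ∈ Subgroup.center P ∧ orderOf z = 5 := by
    have h2 : commutator P ⊓ Subgroup.center P ≠ ⊥ := by
      exact PGroup.inf_center_ne_bot hP hcomm
    obtain ⟨w, hw⟩ := exists_prime_orderOf_dvd_card' (G := ↥(commutator P ⊓ Subgroup.center P)) 5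
      ((hP.to_subgroup _).card_eq_or_dvd.resolve_left fun h => h2 (Subgroup.card_eq_one.1 h))
    exact ⟨w, w.2.1, w.2.2, by rw [← hw, Subgroup.orderOf_coe]⟩
  have hz1 : ι z ≠ 1 := fun h => by
    rw [hι (h.trans (map_one ι).symm), orderOf_one] at hzo; omega
  obtain ⟨l, hl1, hpos, hlt⟩ := exists_eigen h5 (ι z) (by rw [← map_pow, ← hzo, pow_orderOf_eq_one, map_one]) hz1
  let V := Fin 8 → K
  let ρ : P →* Module.End K V :=
    (Matrix.toLinAlgEquiv' (R := K) (n := Fin 8)).toMonoidHom.comp ((Units.coeHom _).comp ((G2 K).subtype.comp ι))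
  set W : Submodule K V := Module.End.eigenspace (Matrix.toLin' ((ι z : GL (Fin 8) K) : M8 K)) l
  have hρz : ρ z = Matrix.toLin' ((ι z : GL (Fin 8) K) : M8 K) := rfl
  have hW : ∀ g, ∀ v ∈ W, ρ g v ∈ W := fun g v hv => by
    rw [Module.End.mem_eigenspace_iff, ← hρz] at hv ⊢
    rw [← Module.End.mul_apply, ← map_mul, ← Subgroup.mem_center_iff.1 hz g, map_mul, Module.End.mul_apply, hv,
      map_smul]
  let σ : P →* Module.End K W :=
    { toFun := fun g => (ρ g).restrict (hW g)
      map_one' := by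
        ext v
        simp
      map_mul' := fun g k => by
        ext v
        simp }
  let τ : P ⧸ σ.toHomUnits.ker →* Module.End K W := (Units.coeHom _).comp (QuotientGroup.kerLift σ.toHomUnits)
  have hd := LinearPGroup.derivedSeries_eq_bot_of_ne_char (hP.to_quotient σ.toHomUnits.ker) (by exact_mod_cast h5) τ
    (Units.val_injective.comp (QuotientGroup.kerLift_injective _))
  rw [Nat.log_of_lt hlt, zero_add, derivedSeries_one] at hd
  have hzk : z ∈ σ.toHomUnits.ker := by
    have h1 : (QuotientGroup.mk' σ.toHomUnits.ker) z ∈ (commutator P).map (QuotientGroup.mk' σ.toHomUnits.ker) :=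
      Subgroup.mem_map_of_mem _ hzc
    rw [_root_.commutator_def, Subgroup.map_commutator, Subgroup.map_top_of_surjective _
      (QuotientGroup.mk'_surjective _), ← _root_.commutator_def, hd, Subgroup.mem_bot] at h1
    exact (QuotientGroup.eq_one_iff z).1 h1
  obtain ⟨v, hv, hv0⟩ := (Submodule.ne_bot_iff W).1 (Submodule.one_le_finrank_iff.1 hpos)
  have e : ρ z v = v :=
    congrArg Subtype.val (LinearMap.congr_fun (congrArg Units.val (MonoidHom.mem_ker.1 hzk)) ⟨v, hv⟩)
  rw [hρz, Module.End.mem_eigenspace_iff.1 hv] at e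
  exact hl1 (smul_left_injective K hv0 (e.trans (one_smul K v).symm))

end Cfsg.Agent.G2Sections
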