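import Mathlib.GroupTheory.Sylow
import Mathlib.GroupTheory.SpecificGroups.Alternating
import Cfsg.Agent.EqLemmas

/-!
# Sections with an element of order five conjugate to its square

* `exists_five_conj_sq` : such an element lifts when the 5-subgroups are abelian.
* `altHom`              : the inclusion of a smaller alternating group.
* `exists_alt_conj_sq`  : the alternating groups of degree at least seven have such elements.
-/

set_option autoImplicit false

namespace Cfsg.Agent.G2Sections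

open Equiv
open scoped Pointwise

/-- An element of order five conjugate to its square lifts through a surjection if the 5-subgroups are abelian. -/
theorem exists_five_conj_sq {H A : Type*} [Group H] [Finite H] [Group A] (π : H →* A) (hπ : Function.Surjective π)
    {x q : A} (hx1 : x ≠ 1) (hx : x ^ 5 = 1) (hq : q * x * q⁻¹ = x ^ 2)
    (hab : ∀ P : Subgroup H, IsPGroup 5 P → ∀ a ∈ P, ∀ b ∈ P, a * b = b * a) :
    ∃ y g : H, y ≠ 1 ∧ y ^ 5 = 1 ∧ g * y * g⁻¹ = y ^ 2 := by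
  have : Fact (Nat.Prime 5) := ⟨by norm_num⟩
  set M : Subgroup H := (Subgroup.zpowers x).comap π with hM
  obtain ⟨h₀, hh₀⟩ := hπ q
  have hxo : orderOf x = 5 := orderOf_eq_prime hx hx1
  have hx4 : (x ^ 2) ^ 3 = x := by rw [← pow_mul, pow_succ, hx, one_mul]
  have hq' : q⁻¹ * x * q = x ^ 3 := by
    have e : q * x ^ 3 * q⁻¹ = x := by rw [← conj_pow, hq, hx4]
    calc q⁻¹ * x * q = q⁻¹ * (q * x ^ 3 * q⁻¹) * q := by rw [e]
      _ = x ^ 3 := by group
  have hfwd : ∀ m ∈ M, h₀ * m * h₀⁻¹ ∈ M := fun m hm => by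
    obtain ⟨k, hk⟩ := Subgroup.mem_zpowers_iff.1 (show π m ∈ Subgroup.zpowers x from hm)
    show π _ ∈ Subgroup.zpowers x
    rw [map_mul, map_mul, map_inv, hh₀, ← hk, ← conj_zpow, hq]
    exact zpow_mem (pow_mem (Subgroup.mem_zpowers x) 2) k
  have hbwd : ∀ m ∈ M, h₀⁻¹ * m * h₀ ∈ M := fun m hm => by
    obtain ⟨k, hk⟩ := Subgroup.mem_zpowers_iff.1 (show π m ∈ Subgroup.zpowers x from hm)
    show π _ ∈ Subgroup.zpowers x
    rw [map_mul, map_mul, map_inv, hh₀, ← hk]
    have e := conj_zpow (i := k) (a := q⁻¹) (b := x)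
    rw [inv_inv] at e
    rw [← e, hq']
    exact zpow_mem (pow_mem (Subgroup.mem_zpowers x) 3) k
  let e : MulAut M :=
    { toFun := fun m => ⟨h₀ * m * h₀⁻¹, hfwd m m.2⟩
      invFun := fun m => ⟨h₀⁻¹ * m * h₀, hbwd m m.2⟩
      left_inv := fun m => Subtype.ext (show h₀⁻¹ * (h₀ * (m : H) * h₀⁻¹) * h₀ = m by group)
      right_inv := fun m => Subtype.ext (show h₀ * (h₀⁻¹ * (m : H) * h₀) * h₀⁻¹ = m by group)
      map_mul' := fun a b => Subtype.ext
        (show h₀ * ((a : H) * b) * h₀⁻¹ = h₀ * (a : H) * h₀⁻¹ * (h₀ * (b : H) * h₀⁻¹) by group) }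
  obtain ⟨P⟩ := (inferInstance : Nonempty (Sylow 5 M))
  obtain ⟨m, hm⟩ := MulAction.exists_smul_eq M (e • P) P
  set ψ : MulAut M := MulAut.conj m * e with hψ
  have hψP : ψ • P = P := by rw [hψ, mul_smul]; exact hm
  set g : H := (m : H) * h₀ with hg
  have hψv : ∀ u : M, ((ψ u : M) : H) = g * u * g⁻¹ := fun u => by
    show (m : H) * (h₀ * (u : H) * h₀⁻¹) * (m : H)⁻¹ = _
    rw [hg]; group
  have hψmem : ∀ u ∈ P, ψ u ∈ P := fun u hu => by
    have := Subgroup.smul_mem_pointwise_smul u ψ (P : Subgroup M) hu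
    rw [← Sylow.pointwise_smul_def, hψP] at this
    exact this
  have hgx : π g * x * (π g)⁻¹ = x ^ 2 := by
    obtain ⟨k, hk⟩ := Subgroup.mem_zpowers_iff.1 (show π m ∈ Subgroup.zpowers x from m.2)
    rw [hg, map_mul, ← hk, hh₀, _root_.mul_inv_rev, mul_assoc (x ^ k) q x, mul_assoc, ← mul_assoc (q * x),
      hq, ← mul_assoc, ((Commute.refl x).zpow_left k).pow_right 2 |>.eq, mul_inv_cancel_right]
  have habP : ∀ a ∈ P, ∀ b ∈ P, a * b = b * a := fun a ha b hb => Subtype.ext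
    (hab ((P : Subgroup M).map M.subtype) (P.2.map _) a ⟨a, ha, rfl⟩ b ⟨b, hb, rfl⟩)
  let f : ↥(P : Subgroup M) → ↥(P : Subgroup M) := fun u =>
    ⟨ψ u * ((u : M) ^ 2)⁻¹, mul_mem (hψmem _ u.2) (inv_mem (pow_mem u.2 2))⟩
  have hf : ∀ u w, f (u * w) = f u * f w := fun u w => Subtype.ext (by
    show ψ ((u : M) * w) * (((u : M) * w) ^ 2)⁻¹ = ψ u * ((u : M) ^ 2)⁻¹ * (ψ w * ((w : M) ^ 2)⁻¹)
    rw [map_mul, (Commute.mul_pow (habP _ u.2 _ w.2) 2), _root_.mul_inv_rev]
    have c1 : Commute (ψ w) ((u : M) ^ 2)⁻¹ := habP _ (hψmem _ w.2) _ (inv_mem (pow_mem u.2 2))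
    have c2 : Commute ((w : M) ^ 2)⁻¹ ((u : M) ^ 2)⁻¹ :=
      habP _ (inv_mem (pow_mem w.2 2)) _ (inv_mem (pow_mem u.2 2))
    rw [c2.eq, mul_assoc, ← mul_assoc (ψ w), c1.eq]
    group)
  have hker : ∀ u, π ((f u : M) : H) = 1 := fun u => by
    obtain ⟨k, hk⟩ := Subgroup.mem_zpowers_iff.1 (show π ((u : M) : H) ∈ Subgroup.zpowers x from (u : M).2)
    show π (((ψ (u : M) : M) : H) * (((u : M) : H) ^ 2)⁻¹) = 1
    rw [hψv, map_mul, map_mul, map_mul, map_inv, map_inv, map_pow, ← hk, ← conj_zpow, hgx, ← zpow_natCast,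
      ← zpow_natCast, ← zpow_mul, ← zpow_mul, mul_comm k, mul_inv_cancel]
  obtain ⟨u, hu1, hu⟩ : ∃ u : (P : Subgroup M), u ≠ 1 ∧ f u = 1 := by
    by_contra hc
    push Not at hc
    have hinj : Function.Injective (MonoidHom.mk' f hf) := (injective_iff_map_eq_one _).2 fun u hu => by
      by_contra hu1
      exact hc u hu1 hu
    have hsur : Function.Surjective (MonoidHom.mk' f hf) := Finite.injective_iff_surjective.1 hinj
    let πM : M →* Subgroup.zpowers x :=
      MonoidHom.codRestrict (π.comp M.subtype) _ fun u => u.2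
    have hπM : Function.Surjective πM := fun y => by
      obtain ⟨z, hz⟩ := hπ y
      exact ⟨⟨z, show π z ∈ _ from hz ▸ y.2⟩, Subtype.ext hz⟩
    have h0 : Subgroup.zpowers x ≤ ((P : Subgroup M).map (π.comp M.subtype)) := by
      intro y hy
      have hc5 : IsPGroup 5 (Subgroup.zpowers x) := IsPGroup.of_card (n := 1) (by rw [Nat.card_zpowers, hxo, pow_one])
      have hT : (P : Subgroup M).map πM = ⊤ := by
        have h2 := ((P.mapSurjective hπM).3 (hc5.to_subgroup ⊤) le_top).symm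
        exact h2
      obtain ⟨w, hw, e⟩ := (hT ▸ Subgroup.mem_top (⟨y, hy⟩ : Subgroup.zpowers x) :
        (⟨y, hy⟩ : Subgroup.zpowers x) ∈ (P : Subgroup M).map πM)
      exact ⟨w, hw, congrArg Subtype.val e⟩
    obtain ⟨w, hw, e⟩ := h0 (Subgroup.mem_zpowers x)
    obtain ⟨u, hu⟩ := hsur ⟨w, hw⟩
    refine hx1 (e.symm.trans ?_)
    rw [show w = (f u : M) from (congrArg Subtype.val hu).symm]
    exact hker u
  set v : H := ((u : M) : H) with hv
  have hv1 : v ≠ 1 := fun h => hu1 (Subtype.ext (Subtype.ext h))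
  have hrel : g * v * g⁻¹ = v ^ 2 := by
    rw [hv, ← hψv]
    exact congrArg Subtype.val (mul_inv_eq_one.1 (congrArg Subtype.val hu : ψ (u : M) * ((u : M) ^ 2)⁻¹ = 1))
  obtain ⟨n, hn⟩ := P.2 u
  have hn' : v ^ 5 ^ n = 1 := congrArg (fun z : (P : Subgroup M) => ((z : M) : H)) hn
  obtain ⟨j, -, hj⟩ := (Nat.dvd_prime_pow (p := 5) (by norm_num)).1 (orderOf_dvd_of_pow_eq_one hn')
  have hj0 : j ≠ 0 := by
    rintro rfl
    exact hv1 (orderOf_eq_one_iff.1 (by simpa using hj))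
  obtain ⟨i, rfl⟩ := Nat.exists_eq_succ_of_ne_zero hj0
  refine ⟨v ^ 5 ^ i, g, ?_, ?_, ?_⟩
  · intro h
    have hle := Nat.le_of_dvd (Nat.pow_pos (by norm_num)) (orderOf_dvd_of_pow_eq_one h)
    rw [hj, pow_succ] at hle
    have : 0 < 5 ^ i := Nat.pow_pos (by norm_num)
    omega
  · rw [← pow_mul, ← pow_succ, ← hj, pow_orderOf_eq_one]
  · rw [← conj_pow, hrel, ← pow_mul, ← pow_mul, mul_comm]

/-- The alternating group of smaller degree, on the first points. -/
noncomputable def altHom {k r : ℕ} (h : k ≤ r) :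
    alternatingGroup (Fin k) →* alternatingGroup (Fin r) :=
  ((Perm.viaEmbeddingHom (Fin.castLEEmb h)).comp (alternatingGroup (Fin k)).subtype).codRestrict _ fun g => by
    classical
    refine Equiv.Perm.mem_alternatingGroup.2 ?_
    show Perm.sign (Perm.viaEmbedding _ _) = 1
    rw [Perm.viaEmbedding, Perm.sign_extendDomain]
    exact Equiv.Perm.mem_alternatingGroup.1 g.2

theorem altHom_injective {k r : ℕ} (h : k ≤ r) : Function.Injective (altHom h) := fun _ _ e =>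
  Subtype.ext (Perm.viaEmbeddingHom_injective _ (congrArg Subtype.val e))

/-- A five-cycle. -/
def fiveCycle : Perm (Fin 7) :=
  ⟨![1, 2, 3, 4, 0, 5, 6], ![4, 0, 1, 2, 3, 5, 6], by decide, by decide⟩

/-- An even permutation squaring the five-cycle. -/
def sqPerm : Perm (Fin 7) :=
  ⟨![0, 2, 4, 1, 3, 6, 5], ![0, 3, 1, 4, 2, 6, 5], by decide, by decide⟩

theorem five_facts : Perm.sign fiveCycle = 1 ∧ Perm.sign sqPerm = 1 ∧ fiveCycle ≠ 1 ∧ fiveCycle ^ 5 = 1 ∧
    sqPerm * fiveCycle * sqPerm⁻¹ = fiveCycle ^ 2 := by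
  decide +kernel

/-- The alternating groups of degree at least seven contain elements of order five conjugate to their squares. -/
theorem exists_alt_conj_sq {r : ℕ} (h : 7 ≤ r) :
    ∃ x q : alternatingGroup (Fin r), x ≠ 1 ∧ x ^ 5 = 1 ∧ q * x * q⁻¹ = x ^ 2 := by
  obtain ⟨h1, h2, h3, h4, h5⟩ := five_facts
  let x : alternatingGroup (Fin 7) := ⟨fiveCycle, Equiv.Perm.mem_alternatingGroup.2 h1⟩
  let q : alternatingGroup (Fin 7) := ⟨sqPerm, Equiv.Perm.mem_alternatingGroup.2 h2⟩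
  refine ⟨altHom h x, altHom h q, fun e => h3 ?_, ?_, ?_⟩
  · exact congrArg Subtype.val (altHom_injective h (e.trans (map_one _).symm))
  · rw [← map_pow, show x ^ 5 = 1 from Subtype.ext h4, map_one]
  · rw [← map_inv, ← map_mul, ← map_mul, ← map_pow, show q * x * q⁻¹ = x ^ 2 from Subtype.ext h5]

end Cfsg.Agent.G2Sections
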