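import Cfsg.Agent.Lib.G2Zorn.Sylow
import Cfsg.Agent.Lib.G2Sections.Eight
import Cfsg.Agent.EqLemmas

/-!
# The alternating group of degree eight is no section of `G2 F`, `q ≡ 1 mod 4`

* `exists_pair`   : an abelian 2-subgroup on two generators of index at most four in a Sylow 2-subgroup.
* `no_section_eight`
-/

set_option autoImplicit false

namespace Cfsg.Agent.G2Sections

open Cfsg.Lie Cfsg.Agent.G2Zorn Matrix WreathAb
open scoped Pointwise

variable {F : Type*} [Field F] [Finite F]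

omit [Finite F] in
theorem det_dTwo (f : Fin 2 → Fˣ) : GeneralLinearGroup.det (dTwo f) = f 0 * f 1 := by
  refine Units.ext ?_
  show Matrix.det ((dTwo f : GL (Fin 2) F) : M2 F) = _
  rw [dTwo_val, Matrix.det_diagonal, Fin.prod_univ_two, Units.val_mul]

theorem exists_pair (hF : Nat.card F % 4 = 1) :
    ∃ (A : Subgroup (G2 F)) (s t : G2 F), IsPGroup 2 A ∧ s * t = t * s ∧
      (∀ x ∈ A, ∃ i j : ℤ, x = s ^ i * t ^ j) ∧
      ∀ S : Subgroup (G2 F), IsPGroup 2 S → Nat.card S ≤ 4 * Nat.card A := by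
  have : Fact (Nat.Prime 2) := ⟨Nat.prime_two⟩
  set q := Nat.card F with hq
  have hodd : Odd q := Nat.odd_iff.2 (by omega)
  have hq1 : 1 < q := one_lt_card_of_odd hodd
  set a := padicValNat 2 (q - 1) with ha
  have hb : padicValNat 2 (q ^ 2 - 1) = a + 1 := by
    have h1 : q ^ 2 - 1 = (q + 1) * (q - 1) := by rw [← Nat.sq_sub_sq, one_pow]
    obtain ⟨k, hk⟩ : ∃ k, q + 1 = 2 * k ∧ ¬ 2 ∣ k := ⟨(q + 1) / 2, by omega, by omega⟩
    rw [h1, padicValNat.mul (by omega) (by omega), hk.1, padicValNat.mul (by norm_num) (by omega),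
      padicValNat.self (by norm_num), padicValNat.eq_zero_of_not_dvd hk.2]
    omega
  obtain ⟨-, ε, -, -, -, hε, -, -⟩ := exists_gl_two_monomial hodd
  let d₀ : Fˣ × Fˣ →* (Fin 2 → Fˣ) :=
    MonoidHom.mk' (fun p => ![p.1 * p.2, p.2⁻¹]) fun p r => by
      funext i; fin_cases i <;> simp [mul_mul_mul_comm, mul_comm]
  let d₁ : Fˣ × Fˣ →* (Fin 2 → Fˣ) :=
    MonoidHom.mk' (fun p => ![p.1, 1]) fun p r => by
      funext i; fin_cases i <;> simp
  let Φ : Fˣ × Fˣ →* G2 F := (quatHom.comp ((dTwo.comp d₀).prod (dTwo.comp d₁))).codRestrict _ fun p =>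
    quatHom_mem (by
      show GeneralLinearGroup.det (dTwo (d₀ p)) = GeneralLinearGroup.det (dTwo (d₁ p))
      rw [det_dTwo, det_dTwo]
      simp [d₀, d₁])
  have hΦ : Function.Injective Φ := (injective_iff_map_eq_one _).2 fun p hp => by
    have h : quatHom (dTwo (d₀ p), dTwo (d₁ p)) = 1 := congrArg Subtype.val hp
    obtain ⟨h1, h2⟩ := (quatHom_eq_one_iff _ _).1 h
    have e := congrArg (fun z : GL (Fin 2) F => (z : M2 F) 1 1) h1
    simp only [dTwo_val] at e
    have hp2 : p.2 = 1 := inv_eq_one.1 (Units.ext (by simpa [d₀, d₁] using e))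
    have e2 := congrFun (congrFun (h2 !![0, 1; 0, 0]) 0) 1
    rw [dTwo_val] at e2
    have hp1 : p.1 = 1 := Units.ext (by simpa [d₁, Matrix.mul_apply, Fin.sum_univ_two] using e2)
    exact Prod.ext hp1 hp2
  let A := ((Subgroup.zpowers ε).prod (Subgroup.zpowers ε)).map Φ
  have hA : Nat.card A = 2 ^ (2 * a) := by
    rw [Subgroup.card_map_of_injective hΦ, Nat.card_congr (Subgroup.prodEquiv _ _).toEquiv, Nat.card_prod,
      Nat.card_zpowers, hε, ← pow_add, two_mul]
  refine ⟨A, Φ (ε, 1), Φ (1, ε), IsPGroup.of_card hA, ?_, ?_, fun S hS => ?_⟩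
  · rw [← map_mul, ← map_mul, mul_comm]
  · rintro _ ⟨⟨x, y⟩, ⟨hx, hy⟩, rfl⟩
    obtain ⟨i, hi⟩ := Subgroup.mem_zpowers_iff.1 hx
    obtain ⟨j, hj⟩ := Subgroup.mem_zpowers_iff.1 hy
    refine ⟨i, j, ?_⟩
    rw [← map_zpow, ← map_zpow, ← map_mul]
    exact congrArg Φ (Prod.ext (by simp [hi]) (by simp [hj]))
  · obtain ⟨n, hn⟩ := hS.exists_card_eq
    rw [hn, hA, show (4 : ℕ) = 2 ^ 2 by norm_num, ← pow_add]
    refine Nat.pow_le_pow_right two_pos ?_
    have hdvd : 2 ^ n ∣ Nat.card (G2 F) := hn ▸ S.card_subgroup_dvd_card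
    have := ((Nat.prime_two.pow_dvd_iff_le_factorization Nat.card_pos.ne').1 hdvd).trans (val_card_G2_le hodd)
    rw [← hq, hb] at this
    omega

/-- No subgroup of `G2 F`, `q ≡ 1 mod 4`, maps onto the alternating group of degree eight. -/
theorem no_section_eight (hF : Nat.card F % 4 = 1) {H : Type*} [Group H] [Finite H] (j : H →* G2 F)
    (hj : Function.Injective j) (π : H →* alternatingGroup (Fin 8)) (hπ : Function.Surjective π) : False := by
  have : Fact (Nat.Prime 2) := ⟨Nat.prime_two⟩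
  obtain ⟨A, s, t, hA, hst, hgen, hcard⟩ := exists_pair hF
  obtain ⟨T, hT⟩ := hA.exists_le_sylow
  obtain ⟨S⟩ := (inferInstance : Nonempty (Sylow 2 H))
  obtain ⟨U, hU⟩ := (S.2.map j).exists_le_sylow
  obtain ⟨g, hg⟩ := MulAction.exists_smul_eq (G2 F) T U
  set c := MulAut.conj g with hc
  have hAU : A.map c.toMonoidHom ≤ (U : Subgroup (G2 F)) := by
    rw [← hg]
    rintro _ ⟨x, hx, rfl⟩
    exact Subgroup.smul_mem_pointwise_smul x c _ (hT hx)
  set C : Subgroup H := ((A.map c.toMonoidHom).comap j) ⊓ S with hC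
  have hrel : Nat.card S ≤ 4 * Nat.card C := by
    have hcA : Nat.card (A.map c.toMonoidHom) = Nat.card A := Subgroup.card_map_of_injective c.injective
    set B := A.map c.toMonoidHom
    have h1 : B.relIndex U ≤ 4 := by
      have h := Subgroup.card_mul_index (B.subgroupOf (U : Subgroup (G2 F)))
      rw [Nat.card_congr (Subgroup.subgroupOfEquivOfLe hAU).toEquiv, hcA] at h
      refine Nat.le_of_mul_le_mul_left (h.le.trans ((hcard _ U.2).trans (le_of_eq (mul_comm _ _)))) Nat.card_pos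
    have h2 : B.relIndex ((S : Subgroup H).map j) ≤ B.relIndex U :=
      Subgroup.relIndex_le_of_le_right hU Subgroup.index_ne_zero_of_finite
    rw [← Subgroup.relIndex_comap] at h2
    have h3 := Subgroup.card_mul_index ((B.comap j).subgroupOf (S : Subgroup H))
    rw [← Subgroup.inf_subgroupOf_right, Nat.card_congr (Subgroup.subgroupOfEquivOfLe inf_le_right).toEquiv,
      Subgroup.inf_subgroupOf_right] at h3
    have h4 : (B.comap j).relIndex S ≤ 4 := h2.trans h1
    calc Nat.card S = Nat.card C * (B.comap j).relIndex S := h3.symm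
      _ ≤ Nat.card C * 4 := Nat.mul_le_mul_left _ h4
      _ = 4 * Nat.card C := mul_comm _ _
  have hgen' : ∀ x ∈ C.map j, ∃ i k : ℤ, x = c s ^ i * c t ^ k := by
    rintro _ ⟨x, hx, rfl⟩
    obtain ⟨y, hy, e⟩ := (hx.1 : j x ∈ A.map c.toMonoidHom)
    obtain ⟨i, k, rfl⟩ := hgen y hy
    exact ⟨i, k, by rw [← e]; show c _ = _; rw [map_mul, map_zpow, map_zpow]⟩
  obtain ⟨_, ⟨c₁, hc₁, rfl⟩, _, ⟨c₂, hc₂, rfl⟩, hcc, hgen2⟩ :=
    two_gen (by rw [← map_mul, ← map_mul, hst]) (C.map j) hgen'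
  obtain ⟨k₁, hk₁⟩ := S.2 ⟨c₁, hc₁.2⟩
  obtain ⟨k₂, hk₂⟩ := S.2 ⟨c₂, hc₂.2⟩
  have h8 := card_image_le_eight (c₁ := π c₁) (c₂ := π c₂) (k := k₁ + k₂)
    (by rw [← map_pow, pow_add, pow_mul, show c₁ ^ 2 ^ k₁ = 1 from congrArg Subtype.val hk₁, one_pow, map_one])
    (by rw [← map_pow, pow_add, mul_comm, pow_mul, show c₂ ^ 2 ^ k₂ = 1 from congrArg Subtype.val hk₂, one_pow, map_one])
    (by rw [← map_mul, ← map_mul, show c₁ * c₂ = c₂ * c₁ from hj (by rw [map_mul, map_mul, hcc])])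
    (π '' (C : Set H)) (by
      rintro _ ⟨x, hx, rfl⟩
      obtain ⟨i, k, e⟩ := hgen2 (j x) (Subgroup.mem_map_of_mem j hx)
      rw [← map_zpow, ← map_zpow, ← map_mul] at e
      exact ⟨i, k, by rw [hj e, map_mul, map_zpow, map_zpow]⟩)
  have hS : 64 ≤ Nat.card ((S : Subgroup H).map π) := by
    have h := (S.mapSurjective hπ).card_eq_multiplicity
    rw [Sylow.coe_mapSurjective] at h
    have h2 : 2 ^ 6 ∣ Nat.card (alternatingGroup (Fin 8)) := by
      rw [nat_card_alternatingGroup, Nat.card_fin]; norm_num [Nat.factorial]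
    have := (Nat.prime_two.pow_dvd_iff_le_factorization Nat.card_pos.ne').1 h2
    rw [h]
    exact le_of_eq_of_le (by norm_num) (Nat.pow_le_pow_right two_pos this)
  have hidx : Nat.card ((S : Subgroup H).map π) ≤ 4 * Nat.card (C.map π) := by
    set D : Subgroup (S : Subgroup H) := C.subgroupOf S with hD
    set ψ := π.comp (S : Subgroup H).subtype with hψ
    have hr : ψ.range = (S : Subgroup H).map π := by rw [hψ, MonoidHom.range_comp, Subgroup.range_subtype]
    have hi : (D.map ψ.rangeRestrict).index ∣ D.index := Subgroup.index_map_dvd _ ψ.rangeRestrict_surjective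
    have hDi : D.index ≤ 4 := by
      have h := D.card_mul_index
      rw [Nat.card_congr (Subgroup.subgroupOfEquivOfLe (inf_le_right : C ≤ S)).toEquiv] at h
      refine Nat.le_of_mul_le_mul_left (h.le.trans (hrel.trans (le_of_eq (mul_comm _ _)))) Nat.card_pos
    have hm : Nat.card (D.map ψ.rangeRestrict) = Nat.card (C.map π) := by
      rw [← Subgroup.card_map_of_injective (K := D.map ψ.rangeRestrict) ψ.range.subtype_injective,
        Subgroup.map_map, show ψ.range.subtype.comp ψ.rangeRestrict = π.comp (S : Subgroup H).subtype from rfl,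
        ← Subgroup.map_map, Subgroup.map_subgroupOf_eq_of_le (inf_le_right : C ≤ S)]
    have h := (D.map ψ.rangeRestrict).card_mul_index
    rw [hm, show Nat.card ψ.range = Nat.card ((S : Subgroup H).map π) by rw [hr]] at h
    calc Nat.card ((S : Subgroup H).map π) = Nat.card (C.map π) * (D.map ψ.rangeRestrict).index := h.symm
      _ ≤ Nat.card (C.map π) * 4 :=
        Nat.mul_le_mul_left _ ((Nat.le_of_dvd (Nat.pos_of_ne_zero Subgroup.index_ne_zero_of_finite) hi).trans hDi)
      _ = 4 * Nat.card (C.map π) := mul_comm _ _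
  rw [← Nat.card_coe_set_eq] at h8
  have h9 : Nat.card (C.map π) ≤ 8 := h8
  omega

end Cfsg.Agent.G2Sections
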